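import Mathlib
import Cfsg.Prelude.Def_GeometricClasses
import Cfsg.Agent.Lib.Helper27.ASC.Defs
import Cfsg.Agent.Lib.Lead.ASCU.Defs
import Cfsg.Agent.Lib.helper2.UXDefs
import Cfsg.Agent.Lib.Helper19.ASU.Defs

/-!
# Project UX, piece FLD62 (`field3_q2`, sub-leader helper24) : shared definitions

`F = F_4`, `f = hermForm 6 F 2`, `K` a field subalgebra of degree 3 of `M_6(F)` closed under the adjoint
`k ↦ k* = uadj 2 k` (conjugate transpose; `Cfsg.Agent.Lib.Helper19.ASU.uadj`, API in `Cfsg.Agent.Lib.Helper19.ASUADJ`).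

* `fld62K0 K` : the elements of `K` fixed by the adjoint (a field with 8 elements);
* `Fld62Pair K u w` : `(u, w)` is a hyperbolic pair for the `K`-hermitian form behind `f`, written with `f` only;
* `fld62V0 K u w = K₀ u + K₀ w` (an `F_2`-form of `F^6` on which `f` is `F_2`-valued and alternating),
  `fld62S K u w = F · V₀`;
* `fld62Stab S` : the stabiliser in `GL_6(F)` of a set of vectors.
-/

set_option autoImplicit false

namespace Cfsg.Agent.Lib.helper2.UX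

open Cfsg Cfsg.Geo Cfsg.Agent.Lib.Helper27.ASC Cfsg.Agent.Lib.Lead.ASCU Cfsg.Agent.Lib.Helper19.ASU
open scoped MatrixGroups Matrix

variable {F : Type*} [Field F]

/-- the elements of `K` fixed by the adjoint -/
def fld62K0 (K : Subalgebra F (Matrix (Fin 6) (Fin 6) F)) : Set (Matrix (Fin 6) (Fin 6) F) :=
  {k | k ∈ K ∧ uadj 2 k = k}

theorem fld62_mem_K0 (K : Subalgebra F (Matrix (Fin 6) (Fin 6) F)) (k : Matrix (Fin 6) (Fin 6) F) :
    k ∈ fld62K0 K ↔ k ∈ K ∧ uadj 2 k = k := Iff.rfl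

/-- a hyperbolic pair for the `K`-hermitian form `h` with `f = ℓ ∘ h` : `h(u,u) = 0 = h(w,w)`, `h(u,w) ∈ K₀`,
normalised by `f(u,w) = 1` -/
structure Fld62Pair (K : Subalgebra F (Matrix (Fin 6) (Fin 6) F)) (u w : Fin 6 → F) : Prop where
  iso_u : ∀ k ∈ K, hermForm 6 F 2 (k *ᵥ u) u = 0
  iso_w : ∀ k ∈ K, hermForm 6 F 2 (k *ᵥ w) w = 0
  symm : ∀ k ∈ K, hermForm 6 F 2 (uadj 2 k *ᵥ u) w = (hermForm 6 F 2 (k *ᵥ u) w) ^ 2
  one : hermForm 6 F 2 u w = 1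

/-- `V₀ = K₀ u + K₀ w` -/
def fld62V0 (K : Subalgebra F (Matrix (Fin 6) (Fin 6) F)) (u w : Fin 6 → F) : Set (Fin 6 → F) :=
  {x | ∃ a ∈ fld62K0 K, ∃ b ∈ fld62K0 K, x = a *ᵥ u + b *ᵥ w}

/-- `S = F · V₀` -/
def fld62S (K : Subalgebra F (Matrix (Fin 6) (Fin 6) F)) (u w : Fin 6 → F) : Set (Fin 6 → F) :=
  {x | ∃ c : F, ∃ v ∈ fld62V0 K u w, x = c • v}

/-- the stabiliser of a set of vectors -/
def fld62Stab (S : Set (Fin 6 → F)) : Subgroup (GL (Fin 6) F) where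
  carrier := {g | ∀ x, (g : Matrix (Fin 6) (Fin 6) F) *ᵥ x ∈ S ↔ x ∈ S}
  mul_mem' {a b} ha hb := by
    intro x
    rw [Units.val_mul, ← Matrix.mulVec_mulVec, ha, hb]
  one_mem' := by
    intro x
    simp
  inv_mem' {a} ha := by
    intro x
    have h := ha (((a⁻¹ : GL (Fin 6) F) : Matrix (Fin 6) (Fin 6) F) *ᵥ x)
    rw [Matrix.mulVec_mulVec, ← Units.val_mul, mul_inv_cancel, Units.val_one, Matrix.one_mulVec] at h
    exact h.symm

theorem fld62_mem_stab (S : Set (Fin 6 → F)) (g : GL (Fin 6) F) :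
    g ∈ fld62Stab S ↔ ∀ x, (g : Matrix (Fin 6) (Fin 6) F) *ᵥ x ∈ S ↔ x ∈ S := Iff.rfl

end Cfsg.Agent.Lib.helper2.UX
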